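import Cfsg.Agent.LargeExtra.Base

/-!
# EH3, THEOREM END (helper270 #13383): the rank one group `Y₀ = ⟨Q, A⟩` of a pair

`p : Pair Q z A a`. `Fl p` = stabiliser of the flag `⟨z⟩ < ⟨z, a⟩`; `Y p = Q ⊔ A` is normalised by `Fl p`; the elements
of `Y p` which commute with `z` lie in `R p = Q · C_A(z)` (`mem_R_of_comm`), a 2-group.
-/

set_option autoImplicit false

namespace Cfsg.Agent.Omega.EH3.End

open Cfsg.Agent.Co2Type.Quad Cfsg.Agent.LargeExtra.Base Subgroup

variable {G : Type*} [Group G] {Q A : Subgroup G} {z a : G}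

/-! ### two-groups of odd index -/

theorem le_of_odd [Finite G] {U V N : Subgroup G} (hUV : U ≤ V) (hVN : V ≤ N) (hV : IsPGroup 2 V)
    (hodd : Odd (U.relIndex N)) : V ≤ U := by
  have h1 := Subgroup.relIndex_mul_relIndex U V N hUV hVN
  have h2 : Odd (U.relIndex V) := by
    rw [← h1] at hodd
    exact (Nat.odd_mul.1 hodd).1
  obtain ⟨n, hn⟩ := hV.index (U.subgroupOf V)
  have h3 : U.relIndex V = 2 ^ n := hn
  have h4 : n = 0 := by
    by_contra h0
    rw [h3] at h2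
    exact (Nat.not_odd_iff_even.2 (Nat.even_pow.2 ⟨even_two, h0⟩)) h2
  rw [h4, pow_zero] at h3
  exact Subgroup.relIndex_eq_one.1 h3

/-! ### the pair -/

/-- `C_A(z)` -/
def X (_p : Pair Q z A a) : Subgroup G := A ⊓ centralizer {z}

theorem mem_X (p : Pair Q z A a) {x : G} : x ∈ X p ↔ x ∈ A ∧ x * z = z * x := by
  rw [X, mem_inf, mem_centralizer_singleton_iff]

/-- the stabiliser of the flag `⟨z⟩ < ⟨z, a⟩` -/
def Fl (p : Pair Q z A a) : Subgroup G where
  carrier := {c | c * z = z * c ∧ (c * a * c⁻¹ = a ∨ c * a * c⁻¹ = a * z)}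
  one_mem' := ⟨by simp, Or.inl (by simp)⟩
  mul_mem' := by
    rintro c d ⟨h1, h2⟩ ⟨h3, h4⟩
    refine ⟨by rw [mul_assoc, h3, ← mul_assoc, h1, mul_assoc], ?_⟩
    have e : c * d * a * (c * d)⁻¹ = c * (d * a * d⁻¹) * c⁻¹ := by group
    have ez : c * z * c⁻¹ = z := by rw [h1]; group
    rw [e]
    rcases h4 with h4 | h4 <;> rw [h4]
    · exact h2
    · have e2 : c * (a * z) * c⁻¹ = (c * a * c⁻¹) * (c * z * c⁻¹) := by group
      rw [e2, ez]
      rcases h2 with h2 | h2 <;> rw [h2]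
      · exact Or.inr rfl
      · left; rw [mul_assoc, p.lz.z_sq, mul_one]
  inv_mem' := by
    rintro c ⟨h1, h2⟩
    have hz : c⁻¹ * z = z * c⁻¹ := by
      calc c⁻¹ * z = c⁻¹ * (z * c) * c⁻¹ := by group
        _ = c⁻¹ * (c * z) * c⁻¹ := by rw [h1]
        _ = _ := by group
    refine ⟨hz, ?_⟩
    rw [inv_inv]
    have ez : c⁻¹ * z * c = z := by rw [hz]; group
    rcases h2 with h2 | h2
    · left
      calc c⁻¹ * a * c = c⁻¹ * (c * a * c⁻¹) * c := by rw [h2]
        _ = a := by group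
    · right
      have h3 : a = (c⁻¹ * a * c) * z := by
        calc a = c⁻¹ * (c * a * c⁻¹) * c := by group
          _ = c⁻¹ * (a * z) * c := by rw [h2]
          _ = (c⁻¹ * a * c) * (c⁻¹ * z * c) := by group
          _ = _ := by rw [ez]
      calc c⁻¹ * a * c = (c⁻¹ * a * c) * z * z := by rw [mul_assoc (c⁻¹ * a * c), p.lz.z_sq, mul_one]
        _ = a * z := by rw [← h3]

theorem mem_Fl (p : Pair Q z A a) {c : G} :
    c ∈ Fl p ↔ c * z = z * c ∧ (c * a * c⁻¹ = a ∨ c * a * c⁻¹ = a * z) := Iff.rfl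

/-- `⟨Q, A⟩` -/
def Y (_p : Pair Q z A a) : Subgroup G := Q ⊔ A

theorem exists_v (p : Pair Q z A a) : ∃ v ∈ Q, v * a * v⁻¹ = a * z := by
  by_contra hcon
  push Not at hcon
  have h1 : ∀ y ∈ Q, a * y = y * a := by
    intro y hy
    rcases p.lz.comm y hy a p.a_mem with h | h
    · exact h.symm
    · exfalso
      apply hcon y hy
      rw [h, mul_assoc, ← (p.lz.commz hy).inv_left.eq]
      group
  rcases p.lz.cent a p.a_mem h1 with h | h
  · exact p.la.z_ne h
  · exact p.ne h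

theorem exists_u (p : Pair Q z A a) : ∃ u ∈ A, u * z * u⁻¹ = z * a := exists_v p.symm

theorem conj_Q (p : Pair Q z A a) {c : G} (hc : c * z = z * c) {x : G} (hx : x ∈ Q) : c * x * c⁻¹ ∈ Q :=
  p.lz.conj_mem c hc x hx

theorem conj_A (p : Pair Q z A a) {c : G} (hc : c * a = a * c) {x : G} (hx : x ∈ A) : c * x * c⁻¹ ∈ A :=
  p.la.conj_mem c hc x hx

theorem Q_le_Fl (p : Pair Q z A a) : Q ≤ Fl p := by
  intro x hx
  refine ⟨p.lz.comm_z x hx, ?_⟩
  rcases p.lz.comm x hx a p.a_mem with h | h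
  · left; rw [h]; group
  · right
    rw [h, mul_assoc, ← (p.lz.commz hx).inv_left.eq]
    group

theorem X_le_Fl (p : Pair Q z A a) : X p ≤ Fl p := by
  intro x hx
  rw [mem_X] at hx
  refine ⟨hx.2, Or.inl ?_⟩
  have := p.la.comm_z x hx.1
  rw [this]; group

/-- elements of `Fl` normalise `Y` -/
theorem Fl_conj_Y (p : Pair Q z A a) {c : G} (hc : c ∈ Fl p) {y : G} (hy : y ∈ Y p) : c * y * c⁻¹ ∈ Y p := by
  obtain ⟨h1, h2⟩ := hc
  have hQ : ∀ x ∈ Q, c * x * c⁻¹ ∈ Y p := fun x hx => (le_sup_left : Q ≤ Q ⊔ A) (conj_Q p h1 hx)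
  have hA : ∀ x ∈ A, c * x * c⁻¹ ∈ Y p := by
    intro x hx
    rcases h2 with h2 | h2
    · exact (le_sup_right : A ≤ Q ⊔ A) (conj_A p (mul_inv_eq_iff_eq_mul.1 h2) hx)
    · obtain ⟨v, hv, hva⟩ := exists_v p
      have h3 : (v⁻¹ * c) * a = a * (v⁻¹ * c) := by
        rw [mul_inv_eq_iff_eq_mul] at h2 hva
        calc v⁻¹ * c * a = v⁻¹ * (c * a) := by group
          _ = v⁻¹ * (a * z * c) := by rw [h2]
          _ = v⁻¹ * (a * z * v) * (v⁻¹ * c) := by group
          _ = v⁻¹ * (v * a) * (v⁻¹ * c) := by rw [hva]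
          _ = _ := by group
      have h4 := conj_A p h3 hx
      have e : c * x * c⁻¹ = v * (v⁻¹ * c * x * (v⁻¹ * c)⁻¹) * v⁻¹ := by group
      rw [e]
      have hvY : v ∈ Y p := (le_sup_left : Q ≤ Q ⊔ A) hv
      exact mul_mem (mul_mem hvY ((le_sup_right : A ≤ Q ⊔ A) h4)) (inv_mem hvY)
  have h3 : Y p ≤ (Y p).comap (MulAut.conj c).toMonoidHom := by
    refine sup_le (fun x hx => ?_) (fun x hx => ?_)
    · exact hQ x hx
    · exact hA x hx
  exact h3 hy

/-- `R = Q · C_A(z)` -/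
def R (p : Pair Q z A a) : Subgroup G where
  carrier := {y | ∃ r ∈ Q, ∃ x ∈ X p, y = r * x}
  one_mem' := ⟨1, one_mem _, 1, one_mem _, by simp⟩
  mul_mem' := by
    rintro _ _ ⟨r, hr, x, hx, rfl⟩ ⟨r', hr', x', hx', rfl⟩
    refine ⟨r * (x * r' * x⁻¹), mul_mem hr (conj_Q p (mem_X p |>.1 hx).2 hr'), x * x', mul_mem hx hx', ?_⟩
    group
  inv_mem' := by
    rintro _ ⟨r, hr, x, hx, rfl⟩
    have hx' := (mem_X p).1 (inv_mem hx)
    refine ⟨x⁻¹ * r⁻¹ * x⁻¹⁻¹, conj_Q p hx'.2 (inv_mem hr), x⁻¹, inv_mem hx, ?_⟩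
    group

theorem mem_R (p : Pair Q z A a) {y : G} : y ∈ R p ↔ ∃ r ∈ Q, ∃ x ∈ X p, y = r * x := Iff.rfl

theorem Q_le_R (p : Pair Q z A a) : Q ≤ R p := fun r hr => ⟨r, hr, 1, one_mem _, by simp⟩

theorem X_le_R (p : Pair Q z A a) : X p ≤ R p := fun x hx => ⟨1, one_mem _, x, hx, by simp⟩

theorem R_le_Fl (p : Pair Q z A a) : R p ≤ Fl p := by
  rintro _ ⟨r, hr, x, hx, rfl⟩
  exact mul_mem (Q_le_Fl p hr) (X_le_Fl p hx)

theorem R_le_Y (p : Pair Q z A a) : R p ≤ Y p := by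
  rintro _ ⟨r, hr, x, hx, rfl⟩
  exact mul_mem ((le_sup_left : Q ≤ Q ⊔ A) hr) ((le_sup_right : A ≤ Q ⊔ A) ((mem_X p).1 hx).1)

theorem R_comm (p : Pair Q z A a) {y : G} (hy : y ∈ R p) : y * z = z * y := (R_le_Fl p hy).1

/-- `A = X ∪ X u` -/
theorem mem_A (p : Pair Q z A a) {u : G} (hu : u ∈ A) (huz : u * z * u⁻¹ = z * a) {x : G} (hx : x ∈ A) :
    x ∈ X p ∨ ∃ y ∈ X p, x = y * u := by
  rcases p.la.comm x hx z p.z_mem with h | h
  · left; exact (mem_X p).2 ⟨hx, h⟩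
  · right
    refine ⟨x * u⁻¹, (mem_X p).2 ⟨mul_mem hx (inv_mem hu), ?_⟩, by group⟩
    have hua := p.la.comm_z u hu
    have h1 : u⁻¹ * z = z * a * u⁻¹ := by
      have h2 : u * z = z * a * u := mul_inv_eq_iff_eq_mul.1 huz
      have h3 : z * u = u * (z * a) := by
        calc z * u = z * a * u * (u⁻¹ * a⁻¹ * u) := by group
          _ = u * z * (u⁻¹ * a⁻¹ * u) := by rw [h2]
          _ = u * z * a⁻¹ := by
              have : u⁻¹ * a⁻¹ * u = a⁻¹ := by
                have h4 : u⁻¹ * (a⁻¹ * u) = u⁻¹ * (u * a⁻¹) := by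
                  congr 1
                  calc a⁻¹ * u = a⁻¹ * (u * a) * a⁻¹ := by group
                    _ = a⁻¹ * (a * u) * a⁻¹ := by rw [hua]
                    _ = _ := by group
                rw [mul_assoc, h4]; group
              rw [this]
          _ = u * (z * a) := by rw [p.la.z_inv, mul_assoc]
      calc u⁻¹ * z = u⁻¹ * (z * u) * u⁻¹ := by group
        _ = u⁻¹ * (u * (z * a)) * u⁻¹ := by rw [h3]
        _ = _ := by group
    have hxa : x * a = a * x := p.la.comm_z x hx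
    calc x * u⁻¹ * z = x * (u⁻¹ * z) := by group
      _ = x * (z * a * u⁻¹) := by rw [h1]
      _ = (x * z) * a * u⁻¹ := by group
      _ = (z * x * a) * a * u⁻¹ := by rw [h]
      _ = z * x * (a * a) * u⁻¹ := by group
      _ = z * (x * u⁻¹) := by rw [p.la.z_sq]; group

/-- `u q u⁻¹ ∈ v A v⁻¹`: both groups are the conjugate of `Q` which belongs to `a z` -/
theorem exists_conj (p : Pair Q z A a) {u v : G} (huz : u * z * u⁻¹ = z * a) (hva : v * a * v⁻¹ = a * z) {x : G}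
    (hx : x ∈ Q) : ∃ α ∈ A, u * x * u⁻¹ = v * α * v⁻¹ := by
  obtain ⟨g, hg, -, hA, -⟩ := p.isConj
  have h1 : u * z * u⁻¹ = (v * g) * z * (v * g)⁻¹ := by
    have e : (v * g) * z * (v * g)⁻¹ = v * (g * z * g⁻¹) * v⁻¹ := by group
    rw [e, hg, hva, huz, p.comm_za]
  have h2 := map_eq_of_conj p.lz h1
  have h3 : u * x * u⁻¹ ∈ Q.map (MulAut.conj u).toMonoidHom := ⟨x, hx, rfl⟩
  rw [h2] at h3
  obtain ⟨y, hy, h4⟩ := h3
  have h5 : v * g * y * (v * g)⁻¹ = u * x * u⁻¹ := h4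
  refine ⟨g * y * g⁻¹, ?_, ?_⟩
  · rw [hA]; exact ⟨y, hy, rfl⟩
  · rw [← h5]; group

theorem X_of_uu (p : Pair Q z A a) {u x : G} (hu : u ∈ A) (huz : u * z * u⁻¹ = z * a) (hx : x ∈ X p) :
    u * x * u ∈ X p := by
  have hx' := (mem_X p).1 hx
  refine (mem_X p).2 ⟨mul_mem (mul_mem hu hx'.1) hu, ?_⟩
  have h1 : u * z = z * a * u := mul_inv_eq_iff_eq_mul.1 huz
  have hua : ∀ y ∈ A, y * a = a * y := fun y hy => p.la.comm_z y hy
  calc u * x * u * z = u * x * (u * z) := by group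
    _ = u * x * (z * a * u) := by rw [h1]
    _ = u * (x * z) * a * u := by group
    _ = u * (z * x) * a * u := by rw [hx'.2]
    _ = (u * z) * (x * a) * u := by group
    _ = (z * a * u) * (a * x) * u := by rw [h1, hua x hx'.1]
    _ = z * a * (u * a) * x * u := by group
    _ = z * a * (a * u) * x * u := by rw [hua u hu]
    _ = z * (a * a) * u * x * u := by group
    _ = z * (u * x * u) := by rw [p.la.z_sq]; group

theorem mem_Y (p : Pair Q z A a) {u : G} (hu : u ∈ A) (huz : u * z * u⁻¹ = z * a) {y : G} (hy : y ∈ Y p) :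
    y ∈ R p ∨ ∃ r ∈ R p, ∃ s ∈ R p, y = r * u * s := by
  obtain ⟨v, hv, hva⟩ := exists_v p
  -- the set is closed under left multiplication with `R` and with `u`
  have hR : ∀ t ∈ R p, ∀ y, (y ∈ R p ∨ ∃ r ∈ R p, ∃ s ∈ R p, y = r * u * s) →
      (t * y ∈ R p ∨ ∃ r ∈ R p, ∃ s ∈ R p, t * y = r * u * s) := by
    rintro t ht y (hy | ⟨r, hr, s, hs, rfl⟩)
    · exact Or.inl (mul_mem ht hy)
    · exact Or.inr ⟨t * r, mul_mem ht hr, s, hs, by group⟩
  have hu' : ∀ y, (y ∈ R p ∨ ∃ r ∈ R p, ∃ s ∈ R p, y = r * u * s) →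
      (u * y ∈ R p ∨ ∃ r ∈ R p, ∃ s ∈ R p, u * y = r * u * s) := by
    rintro y (hy | ⟨_, ⟨q, hq, x, hx, rfl⟩, s, hs, rfl⟩)
    · exact Or.inr ⟨1, one_mem _, y, hy, by group⟩
    · obtain ⟨α, hα, h1⟩ := exists_conj p huz hva hq
      have hux := X_of_uu p hu huz hx
      have e : u * (q * x * u * s) = (u * q * u⁻¹) * ((u * x * u) * s) := by group
      rw [e, h1]
      have hvR := Q_le_R p hv
      have hxs : u * x * u * s ∈ R p := mul_mem (X_le_R p hux) hs
      rcases mem_A p hu huz hα with h2 | ⟨y, hy, rfl⟩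
      · exact Or.inl (mul_mem (mul_mem (mul_mem hvR (X_le_R p h2)) (inv_mem hvR)) hxs)
      · refine Or.inr ⟨v * y, mul_mem hvR (X_le_R p hy), v⁻¹ * (u * x * u * s),
          mul_mem (inv_mem hvR) hxs, by group⟩
  have hA : ∀ t ∈ A, ∀ y, (y ∈ R p ∨ ∃ r ∈ R p, ∃ s ∈ R p, y = r * u * s) →
      (t * y ∈ R p ∨ ∃ r ∈ R p, ∃ s ∈ R p, t * y = r * u * s) := by
    intro t ht y hy
    rcases mem_A p hu huz ht with h2 | ⟨x, hx, rfl⟩
    · exact hR t (X_le_R p h2) y hy
    · rw [mul_assoc]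
      exact hR x (X_le_R p hx) _ (hu' y hy)
  rw [Y, Subgroup.sup_eq_closure] at hy
  induction hy using Subgroup.closure_induction_left with
  | one => exact Or.inl (one_mem _)
  | mul_left x hx y hy ih =>
    rcases hx with hx | hx
    · exact hR x (Q_le_R p hx) y ih
    · exact hA x hx y ih
  | inv_mul_cancel x hx y hy ih =>
    rcases hx with hx | hx
    · exact hR _ (inv_mem (Q_le_R p hx)) y ih
    · exact hA _ (inv_mem hx) y ih

theorem mem_R_of_comm (p : Pair Q z A a) {y : G} (hy : y ∈ Y p) (hz : y * z = z * y) : y ∈ R p := by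
  obtain ⟨u, hu, huz⟩ := exists_u p
  rcases mem_Y p hu huz hy with h | ⟨r, hr, s, hs, rfl⟩
  · exact h
  · exfalso
    have h1 := R_comm p hr
    have h2 := R_comm p hs
    have h3 : u * z = z * u := by
      have h4 : r * u * z * s = r * z * u * s := by
        calc r * u * z * s = r * u * (z * s) := by group
          _ = r * u * s * z := by rw [← h2]; group
          _ = z * (r * u * s) := hz
          _ = (z * r) * u * s := by group
          _ = r * z * u * s := by rw [← h1]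
      have h5 : r * (u * z) * s = r * (z * u) * s := by
        calc r * (u * z) * s = r * u * z * s := by group
          _ = _ := by rw [h4]; group
      exact mul_left_cancel (mul_right_cancel h5)
    have h6 : z * a = z := by
      rw [← huz, h3]; group
    exact p.la.z_ne (mul_eq_left.1 h6)

/-- elements of `Fl` normalise `R` -/
theorem Fl_conj_R (p : Pair Q z A a) {c : G} (hc : c ∈ Fl p) {y : G} (hy : y ∈ R p) : c * y * c⁻¹ ∈ R p := by
  refine mem_R_of_comm p (Fl_conj_Y p hc (R_le_Y p hy)) ?_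
  have h1 := R_comm p hy
  have h2 := hc.1
  have h3 : c⁻¹ * z = z * c⁻¹ := ((Fl p).inv_mem hc).1
  calc c * y * c⁻¹ * z = c * y * (c⁻¹ * z) := by group
    _ = c * (y * z) * c⁻¹ := by rw [h3]; group
    _ = (c * z) * y * c⁻¹ := by rw [h1]; group
    _ = z * (c * y * c⁻¹) := by rw [h2]; group

theorem isPGroup_R [Finite G] (p : Pair Q z A a) : IsPGroup 2 (R p) := by
  have hX : IsPGroup 2 (X p) := (isPGroup p.la).to_le inf_le_left
  have hn : X p ≤ normalizer (Q : Set G) := by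
    intro x hx
    have hx' := ((mem_X p).1 hx).2
    have hx2 := ((mem_X p).1 (inv_mem hx)).2
    rw [mem_normalizer_iff]
    intro y
    refine ⟨fun h => conj_Q p hx' h, fun h => ?_⟩
    have := conj_Q p hx2 h
    have e : x⁻¹ * (x * y * x⁻¹) * x⁻¹⁻¹ = y := by group
    rwa [e] at this
  have h1 := IsPGroup.to_sup_of_normal_left' (isPGroup p.lz) hX hn
  refine h1.to_le ?_
  rintro _ ⟨r, hr, x, hx, rfl⟩
  exact mul_mem ((le_sup_left : Q ≤ _) hr) ((le_sup_right : X p ≤ _) hx)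

end Cfsg.Agent.Omega.EH3.End
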