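import Cfsg.Agent.ParSys.RankTwo

/-!
# EH3, THEOREM END (helper270 #13383): the residue of type `A₂`

`gpp_three`: the condition `GP` for `m = 3` from `P i P j P i ⊆ P j P i P j` and "no short circuits"
(`p q = q' p'` with `p, p' ∈ P i`, `q, q' ∈ P j` only if `p ∈ B` or `q ∈ B`).
-/

set_option autoImplicit false

namespace Cfsg.Agent.Omega.EH3.End.Flag

open Cfsg.Agent.ParSys Cfsg.Agent.ParSys.Free Cfsg.Agent.ParSys.RankTwo

variable {G : Type*} [Group G] {I : Type*} {B : Subgroup G} {P : I → Subgroup G}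

theorem gpp_three (hBP : ∀ i, B ≤ P i) {i j : I} (hinf : ∀ x, x ∈ P i → x ∈ P j → x ∈ B)
    (hmul : ∀ p ∈ P i, ∀ q ∈ P j, ∀ r ∈ P i, ∃ p' ∈ P j, ∃ q' ∈ P i, ∃ r' ∈ P j, p * q * r = p' * q' * r')
    (hno : ∀ p ∈ P i, ∀ q ∈ P j, ∀ q' ∈ P j, ∀ p' ∈ P i, p * q = q' * p' → p ∈ B ∨ q ∈ B) :
    GPp B P i j 3 := by
  -- the mirror image of `hno`
  have hno' : ∀ q ∈ P j, ∀ p ∈ P i, ∀ p' ∈ P i, ∀ q' ∈ P j, q * p = p' * q' → p ∈ B ∨ q ∈ B := by
    intro q hq p hp p' hp' q' hq' h
    have e : p⁻¹ * q⁻¹ = q'⁻¹ * p'⁻¹ := by rw [← mul_inv_rev, h, mul_inv_rev]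
    rcases hno _ (inv_mem hp) _ (inv_mem hq) _ (inv_mem hq') _ (inv_mem hp') e with h1 | h1
    · left; simpa using inv_mem h1
    · right; simpa using inv_mem h1
  intro c l hl
  induction c using QuotientGroup.induction_on with
  | _ x =>
  obtain ⟨k, hk, rfl⟩ := exists_chm hBP hl
  match k, hk with
  | [], hk => exact hk.elim
  | [_], hk => exact hk.2.elim
  | [_, _], hk => exact hk.2.2.elim
  | _ :: _ :: _ :: _ :: _, hk => exact hk.2.2.2.elim
  | [p, q, r], hk =>
    obtain ⟨⟨hp, hpB⟩, ⟨hq, hqB⟩, ⟨hr, hrB⟩, -⟩ := hk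
    obtain ⟨p', hp', q', hq', r', hr', e⟩ := hmul p hp q hq r hr
    have hp'B : p' ∉ B := by
      intro h
      have h1 : p' ∈ P i := hBP i h
      have e1 : q * r = (p⁻¹ * (p' * q')) * r' := by
        have : p * (q * r) = (p' * q') * r' := by rw [← mul_assoc, e]
        calc q * r = p⁻¹ * (p * (q * r)) := by group
          _ = _ := by rw [this]; group
      rcases hno' q hq r hr _ (mul_mem (inv_mem hp) (mul_mem h1 hq')) _ hr' e1 with h2 | h2
      · exact hrB h2
      · exact hqB h2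
    have hr'B : r' ∉ B := by
      intro h
      have h1 : r' ∈ P i := hBP i h
      have e1 : p * q = p' * (q' * r' * r⁻¹) := by
        calc p * q = p * q * r * r⁻¹ := by group
          _ = _ := by rw [e]; group
      rcases hno p hp q hq _ hp' _ (mul_mem (mul_mem hq' h1) (inv_mem hr)) e1 with h2 | h2
      · exact hpB h2
      · exact hqB h2
    have hq'B : q' ∉ B := by
      intro h
      have h1 : q' ∈ P j := hBP j h
      have e1 : q * r = p⁻¹ * (p' * q' * r') := by rw [← e]; group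
      rcases hno' q hq r hr _ (inv_mem hp) _ (mul_mem (mul_mem hp' h1) hr') e1 with h2 | h2
      · exact hrB h2
      · exact hqB h2
    have hg : GalE B P (alt j i 3) [p', q', r'] := ⟨⟨hp', hp'B⟩, ⟨hq', hq'B⟩, ⟨hr', hr'B⟩, trivial⟩
    refine ⟨chm B x [p', q', r'], ⟨isGal_chm hBP hg, ?_⟩, ?_⟩
    · rw [chm_last, chm_last]
      simp only [List.prod_cons, List.prod_nil, mul_one]
      rw [← mul_assoc p', ← e, mul_assoc p]
    · rintro l'' ⟨h2, h3⟩
      obtain ⟨k'', hk'', rfl⟩ := exists_chm hBP h2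
      rw [chm_last, chm_last, QuotientGroup.eq] at h3
      match k'', hk'' with
      | [], hk => exact hk.elim
      | [_], hk => exact hk.2.elim
      | [_, _], hk => exact hk.2.2.elim
      | _ :: _ :: _ :: _ :: _, hk => exact hk.2.2.2.elim
      | [a, b, d], hk'' =>
        obtain ⟨⟨ha, haB⟩, ⟨hb, hbB⟩, ⟨hd, hdB⟩, -⟩ := hk''
        have h4 : (a * b * d)⁻¹ * (p' * q' * r') ∈ B := by
          have e' : (x * [a, b, d].prod)⁻¹ * (x * [p, q, r].prod) = (a * b * d)⁻¹ * (p' * q' * r') := by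
            rw [← e]; simp only [List.prod_cons, List.prod_nil, mul_one]; group
          rwa [e'] at h3
        -- `a B = p' B`
        have e5 : (a⁻¹ * p') * q' = b * (d * ((a * b * d)⁻¹ * (p' * q' * r')) * r'⁻¹) := by group
        have h5 : a⁻¹ * p' ∈ B := by
          rcases hno' _ (mul_mem (inv_mem ha) hp') _ hq' _ hb _
            (mul_mem (mul_mem hd (hBP j h4)) (inv_mem hr')) e5 with h6 | h6
          · exact absurd h6 hq'B
          · exact h6
        have h6 : (a * b)⁻¹ * (p' * q') ∈ B := by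
          refine hinf _ ?_ ?_
          · have e' : (a * b)⁻¹ * (p' * q') = b⁻¹ * (a⁻¹ * p') * q' := by group
            rw [e']
            exact mul_mem (mul_mem (inv_mem hb) (hBP i h5)) hq'
          · have e' : (a * b)⁻¹ * (p' * q') = d * ((a * b * d)⁻¹ * (p' * q' * r')) * r'⁻¹ := by group
            rw [e']
            exact mul_mem (mul_mem hd (hBP j h4)) (inv_mem hr')
        have h7 : ((x * a : G) : G ⧸ B) = ((x * p' : G) : G ⧸ B) := by
          rw [QuotientGroup.eq]
          have e' : (x * a)⁻¹ * (x * p') = a⁻¹ * p' := by group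
          rw [e']; exact h5
        have h8 : ((x * a * b : G) : G ⧸ B) = ((x * p' * q' : G) : G ⧸ B) := by
          rw [QuotientGroup.eq]
          have e' : (x * a * b)⁻¹ * (x * p' * q') = (a * b)⁻¹ * (p' * q') := by group
          rw [e']; exact h6
        have h9 : ((x * a * b * d : G) : G ⧸ B) = ((x * p' * q' * r' : G) : G ⧸ B) := by
          rw [QuotientGroup.eq]
          have e' : (x * a * b * d)⁻¹ * (x * p' * q' * r') = (a * b * d)⁻¹ * (p' * q' * r') := by group
          rw [e']; exact h4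
        simp only [chm, h7, h8, h9]

end Cfsg.Agent.Omega.EH3.End.Flag
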