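import Mathlib

/-!
# EH3, THEOREM END (helper270 #13383), (E3) (iii): a central 2-group in a perfect group

`central_kill`: `X` finite, without homomorphisms onto abelian groups `≠ 1`, `K` central, `B ∩ K = 1` and `|X : B K|`
prime to `|K|` ⇒ `K = 1` (transfer into `B K / B ≅ K`).
`kill_rel`: the same for a section `X / (B ∩ K)` of a finite group.
-/

set_option autoImplicit false

namespace Cfsg.Agent.Omega.EH3.End.Kill

open Subgroup

universe u

theorem central_kill {X : Type u} [Group X] [Finite X] {B K : Subgroup X} (hK : ∀ k ∈ K, ∀ x, x * k = k * x)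
    (hBK : ∀ x, x ∈ B → x ∈ K → x = 1) (hcop : Nat.Coprime (B ⊔ K).index (Nat.card K))
    (hperf : ∀ (A : Type u) [CommGroup A] (f : X →* A) (x : X), f x = 1) : K = ⊥ := by
  classical
  have hmem : ∀ x, x ∈ B ⊔ K → ∃ b ∈ B, ∃ k ∈ K, x = b * k := by
    intro x hx
    have h1 : K.Normal := ⟨fun k hk g => by rw [hK k hk g]; simpa using hk⟩
    obtain ⟨b, hb, k, hk, e⟩ := Subgroup.mem_sup_of_normal_right.1 hx
    exact ⟨b, hb, k, hk, e.symm⟩
  let H : Subgroup X := B ⊔ K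
  have hBH : B ≤ H := le_sup_left
  have hKH : K ≤ H := le_sup_right
  let N : Subgroup H := B.subgroupOf H
  have hN : N.Normal := by
    refine ⟨fun n hn g => ?_⟩
    rw [mem_subgroupOf] at hn ⊢
    obtain ⟨b, hb, k, hk, e⟩ := hmem g.1 g.2
    have e1 : ((g * n * g⁻¹ : H) : X) = b * n.1 * b⁻¹ := by
      show g.1 * n.1 * g.1⁻¹ = _
      rw [e]
      have h1 := hK k hk n.1
      calc b * k * n.1 * (b * k)⁻¹ = b * (k * n.1) * k⁻¹ * b⁻¹ := by group
        _ = b * (n.1 * k) * k⁻¹ * b⁻¹ := by rw [h1]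
        _ = _ := by group
    rw [e1]
    exact mul_mem (mul_mem hb hn) (inv_mem hb)
  have hcomm : ∀ x y : H ⧸ N, x * y = y * x := by
    intro x y
    induction x using QuotientGroup.induction_on with
    | _ x =>
    induction y using QuotientGroup.induction_on with
    | _ y =>
    obtain ⟨b, hb, k, hk, e⟩ := hmem x.1 x.2
    obtain ⟨c, hc, l, hl, e'⟩ := hmem y.1 y.2
    have hx : (x : H ⧸ N) = ((⟨k, hKH hk⟩ : H) : H ⧸ N) := by
      rw [QuotientGroup.eq, mem_subgroupOf]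
      have : ((x⁻¹ * ⟨k, hKH hk⟩ : H) : X) = b⁻¹ := by
        show x.1⁻¹ * k = b⁻¹
        rw [e]
        have h1 := hK k hk b⁻¹
        calc (b * k)⁻¹ * k = k⁻¹ * (b⁻¹ * k) := by group
          _ = k⁻¹ * (k * b⁻¹) := by rw [h1]
          _ = _ := by group
      rw [this]; exact inv_mem hb
    have hy : (y : H ⧸ N) = ((⟨l, hKH hl⟩ : H) : H ⧸ N) := by
      rw [QuotientGroup.eq, mem_subgroupOf]
      have : ((y⁻¹ * ⟨l, hKH hl⟩ : H) : X) = c⁻¹ := by
        show y.1⁻¹ * l = c⁻¹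
        rw [e']
        have h1 := hK l hl c⁻¹
        calc (c * l)⁻¹ * l = l⁻¹ * (c⁻¹ * l) := by group
          _ = l⁻¹ * (l * c⁻¹) := by rw [h1]
          _ = _ := by group
      rw [this]; exact inv_mem hc
    rw [hx, hy, ← QuotientGroup.mk_mul, ← QuotientGroup.mk_mul]
    congr 1
    exact Subtype.ext (hK l hl k)
  let _ : CommGroup (H ⧸ N) := { (inferInstance : Group (H ⧸ N)) with mul_comm := hcomm }
  rw [eq_bot_iff]
  intro k hk
  rw [mem_bot]
  have key : ∀ (m : ℕ) (g₀ : X), g₀⁻¹ * k ^ m * g₀ ∈ H → g₀⁻¹ * k ^ m * g₀ = k ^ m := by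
    intro m g₀ _
    rw [mul_assoc, ← hK _ (pow_mem hk m) g₀]
    group
  have h1 := MonoidHom.transfer_eq_pow (QuotientGroup.mk' N) k key
  have h2 := hperf _ (MonoidHom.transfer (QuotientGroup.mk' N)) k
  rw [h2] at h1
  have h3 : k ^ H.index ∈ B := by
    have h4 := h1.symm
    rw [QuotientGroup.mk'_apply, QuotientGroup.eq_one_iff, mem_subgroupOf] at h4
    exact h4
  have h5 := hBK _ h3 (pow_mem hk _)
  have h6 : orderOf k ∣ H.index := orderOf_dvd_of_pow_eq_one h5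
  have h7 : orderOf k ∣ Nat.card K := Subgroup.orderOf_dvd_natCard K hk
  exact orderOf_eq_one_iff.1 (Nat.eq_one_of_dvd_coprimes hcop h6 h7)

theorem kill_rel {G : Type u} [Group G] [Finite G] {X B K : Subgroup G} (hBX : B ≤ X) (hKX : K ≤ X)
    (hKn : ∀ x ∈ X, ∀ k ∈ K, x * k * x⁻¹ ∈ K) (hc : ∀ x ∈ X, ∀ k ∈ K, x * k * x⁻¹ * k⁻¹ ∈ B)
    (hodd : Odd ((B ⊔ K).relIndex X)) (h2 : ∀ k ∈ K, ∃ n : ℕ, k ^ 2 ^ n ∈ B)
    (hperf : ∀ (A : Type u) [CommGroup A] (f : X →* A),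
      (∀ k : X, (k : G) ∈ K → (k : G) ∈ B → f k = 1) → ∀ x, f x = 1) : K ≤ B := by
  classical
  let N : Subgroup X := (B ⊓ K).subgroupOf X
  have hmN : ∀ x : X, x ∈ N ↔ (x : G) ∈ B ∧ (x : G) ∈ K := fun x => by
    rw [mem_subgroupOf, mem_inf]
  have hN : N.Normal := by
    refine ⟨fun n hn g => ?_⟩
    rw [hmN] at hn ⊢
    have h1 := hKn g.1 g.2 _ hn.2
    refine ⟨?_, h1⟩
    have h3 := mul_mem (hc g.1 g.2 _ hn.2) hn.1
    have e : g.1 * n.1 * g.1⁻¹ * n.1⁻¹ * n.1 = g.1 * n.1 * g.1⁻¹ := by group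
    rw [e] at h3
    exact h3
  let π : X →* X ⧸ N := QuotientGroup.mk' N
  have hπ : Function.Surjective π := QuotientGroup.mk'_surjective N
  have hker : π.ker = N := QuotientGroup.ker_mk' N
  have hπ1 : ∀ x : X, π x = 1 ↔ (x : G) ∈ B ∧ (x : G) ∈ K := by
    intro x
    rw [← MonoidHom.mem_ker, hker, hmN]
  have hkill : ((K.subgroupOf X).map π) = ⊥ := by
    refine central_kill (B := (B.subgroupOf X).map π) ?_ ?_ ?_ ?_
    · rintro _ ⟨k, hk, rfl⟩ x
      obtain ⟨x, rfl⟩ := hπ x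
      have hk' : (k : G) ∈ K := mem_subgroupOf.1 hk
      rw [← map_mul, ← map_mul, ← mul_inv_eq_one, ← map_inv, ← map_mul, hπ1]
      have e : ((x * k * (k * x)⁻¹ : X) : G) = x.1 * k.1 * x.1⁻¹ * k.1⁻¹ := by
        show x.1 * k.1 * (k.1 * x.1)⁻¹ = _
        group
      rw [e]
      exact ⟨hc x.1 x.2 _ hk', mul_mem (hKn x.1 x.2 _ hk') (inv_mem hk')⟩
    · rintro _ ⟨b, hb, rfl⟩ ⟨k, hk, e⟩
      have hk' : (k : G) ∈ K := mem_subgroupOf.1 hk
      have hb' : (b : G) ∈ B := mem_subgroupOf.1 hb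
      have h1 : π (k * b⁻¹) = 1 := by rw [map_mul, map_inv, e, mul_inv_cancel]
      rw [hπ1] at h1
      have h3 : (b : G) ∈ K := by
        have h4 := mul_mem (inv_mem h1.2) hk'
        have e2 : ((k * b⁻¹ : X) : G)⁻¹ * k.1 = b.1 := by
          show (k.1 * b.1⁻¹)⁻¹ * k.1 = _
          group
        rwa [e2] at h4
      exact (hπ1 b).2 ⟨hb', h3⟩
    · rw [← Subgroup.map_sup, ← Subgroup.subgroupOf_sup hBX hKX,
        Subgroup.index_map_eq _ hπ (by
          rw [hker]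
          intro x hx
          rw [mem_subgroupOf]
          exact (le_sup_left : B ≤ B ⊔ K) ((hmN x).1 hx).1)]
      have h1 : ((B ⊔ K).subgroupOf X).index = (B ⊔ K).relIndex X := rfl
      rw [h1]
      have hP : IsPGroup 2 ((K.subgroupOf X).map π) := by
        rintro ⟨_, k, hk, rfl⟩
        have hk' : (k : G) ∈ K := mem_subgroupOf.1 hk
        obtain ⟨n, hn⟩ := h2 _ hk'
        refine ⟨n, Subtype.ext ?_⟩
        show (π k) ^ 2 ^ n = 1
        rw [← map_pow, hπ1]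
        exact ⟨by simpa using hn, by simpa using pow_mem hk' _⟩
      obtain ⟨n, hn⟩ := IsPGroup.iff_card.1 hP
      rw [hn]
      exact Nat.Coprime.pow_right _ (Nat.Coprime.symm hodd.coprime_two_left)
    · intro A _ f x
      obtain ⟨x, rfl⟩ := hπ x
      exact hperf A (f.comp π) (fun k hk hb => by
        show f (π k) = 1
        rw [(hπ1 k).2 ⟨hb, hk⟩, map_one]) x
  intro k hk
  have h1 : π ⟨k, hKX hk⟩ ∈ (K.subgroupOf X).map π := ⟨_, mem_subgroupOf.2 hk, rfl⟩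
  rw [hkill, mem_bot, hπ1] at h1
  exact h1.1

end Cfsg.Agent.Omega.EH3.End.Kill
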